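import Cfsg.Agent.Lib.JankoFourOrder.Codes
import Cfsg.Agent.Lib.JankoFourHexad.InvolChecks

/-!
# Finite checks for the coordinates on the normalizer of `V` (owner: helper28)
-/

set_option autoImplicit false
set_option maxRecDepth 100000

namespace CfsgLib.JankoFourOrder

open CfsgLib.Sporadic CfsgLib.JankoFourHexad
open CfsgLib.ThreeTrans.LargeFischer (vI)

/-- The codes fixed by `p`. -/
noncomputable def fx (i : ℕ) : ℕ := Nat.lor (Nat.land i 1) (Nat.shiftLeft (Nat.shiftRight i 1) 7)

/-- The code of the outer cocycle at a permutation. -/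
noncomputable def oI (p : ℕ) : ℕ := Nat.xor (cI 2) (cI (pget p 2))

/-- The image of a coboundary twisted by the outer cocycle. -/
noncomputable def stdC (v : ℕ) (e : Bool) (w : ℕ) : ℕ :=
  Nat.xor (Nat.xor v (tMap w v)) (if e then oI (wPerm w) else 0)

theorem cI_eq : forallLt 24 (fun i => Nat.beq (cI i) (lamI (vI i))) = true := by decide +kernel

theorem base_ok : forallLt 11 (fun j => Nat.beq (xfold cI (baseSets.getD j 0) 24) (2 ^ j) &&
    Nat.beq (xfold (fun _ => 1) (baseSets.getD j 0) 24) 0) = true := by decide +kernel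

theorem bits_ok : forallLt 2048 (fun n => Nat.beq (xfold (fun j => 2 ^ j) n 11) n) = true := by decide +kernel

theorem wPerm_ok : forallLt 64 (fun w => isAut (wPerm w) &&
    forallLt 24 fun i => Nat.beq (tMap w (cI i))
      (Nat.xor (cI (pget (wPerm w) i)) (cI (pget (wPerm w) 23)))) = true := by decide +kernel

theorem pPerm_ok : (isAut pPerm && Nat.beq (pget pPerm 2) 2 &&
    forallLt 24 fun i => Nat.beq (gMap 2 (cI i)) (Nat.xor (cI (pget pPerm i)) (cI (pget pPerm 23)))) = true := by
  decide +kernel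

theorem fx_ok : (forallLt 2048 (fun n => !Nat.beq (gMap 2 n) n ||
    !forallLt 32 (fun i => !Nat.beq (fx i) n)) &&
    forallLt 32 fun i => Nat.blt (fx i) 2048 && Nat.beq (gMap 2 (fx i)) (fx i)) = true := by decide +kernel

theorem mul_tables : (Nat.beq (mP 1) 2 && Nat.beq (mP 2) 3 && Nat.beq (mP 4) 8 && Nat.beq (mP 16) 32 &&
    Nat.beq (mA 1) 1 && Nat.beq (mB 1) 4 && Nat.beq (mB 4) 16 && Nat.beq (mB 16) 1) = true := by decide +kernel

/-- What the relations say about the code at the first generator. -/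
noncomputable def goodC (c : ℕ) : Bool :=
  Nat.beq (tMap 1 c) c &&
  (Nat.beq (gMap 2 (gMap 2 c)) (Nat.xor c (tMap 1 (gMap 2 c))) &&
  (Nat.beq (Nat.xor c (tMap 1 (gMap 2 c))) (Nat.xor (gMap 2 c) (tMap 2 c)) &&
  !forallLt 32 (fun i => !Nat.beq c (Nat.xor (Nat.xor (gMap 0 c) (fx i)) (tMap 1 (fx i))))))

/-- The next code under `b`. -/
noncomputable def nextC (c vb w : ℕ) : ℕ := Nat.xor (Nat.xor (gMap 1 c) vb) (tMap w vb)

theorem cocycle_solve : forallLt 2048 (fun c => !goodC c || forallLt 32 fun j =>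
    !Nat.beq (nextC (nextC (nextC c (fx j) 4) (fx j) 16) (fx j) 1) c ||
      !forallLt 64 fun k => !(Nat.beq (stdC (fx (Nat.shiftRight k 1)) (Nat.testBit k 0) 1) c &&
        (Nat.beq (stdC (fx (Nat.shiftRight k 1)) (Nat.testBit k 0) 4) (nextC c (fx j) 4) &&
          Nat.beq (stdC (fx (Nat.shiftRight k 1)) (Nat.testBit k 0) 16)
            (nextC (nextC c (fx j) 4) (fx j) 16)))) = true := by decide +kernel

end CfsgLib.JankoFourOrder
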