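import Cfsg.Agent.Lib.JankoFourHexad.Split
import Cfsg.Agent.Lib.JankoFourOrder.Coord.Checks

/-!
# Maps of the codes induced by permutations of the points (owner: helper28)
-/

set_option autoImplicit false
set_option linter.unusedSectionVars false
set_option maxRecDepth 100000

namespace CfsgLib.JankoFour

open Cfsg CfsgLib.ThreeTrans CfsgLib.JankoFourHexad CfsgLib.JankoFourOrder
open CfsgLib.Sporadic (Rep forallLt_elim ix ix_lt pt pt_ix ix_pt pget isAut)
open CfsgLib.ThreeTrans.LargeFischer (vI dv vPt vPt_none)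

/-- An additive map commutes with the sums. -/
theorem xfold_hom {h : ℕ → ℕ} (h0 : h 0 = 0) (ha : ∀ a b, h (a ^^^ b) = h a ^^^ h b) (f : ℕ → ℕ) (m : ℕ) :
    ∀ k, h (xfold f m k) = xfold (fun i => h (f i)) m k
  | 0 => h0
  | k + 1 => by
    rw [xfold_succ, xfold_succ, show ∀ a b : ℕ, Nat.xor a b = a ^^^ b from fun _ _ => rfl, ha,
      xfold_hom h0 ha f m k]
    split_ifs
    · rfl
    · rw [h0]; rfl

theorem xfold_congr {f g : ℕ → ℕ} (m : ℕ) : ∀ k, (∀ i < k, f i = g i) → xfold f m k = xfold g m k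
  | 0, _ => rfl
  | k + 1, h => by
    rw [xfold_succ, xfold_succ, xfold_congr m k fun i hi => h i (by omega), h k (by omega)]

theorem xfold_xor (f g : ℕ → ℕ) (m : ℕ) :
    ∀ k, xfold (fun i => f i ^^^ g i) m k = xfold f m k ^^^ xfold g m k
  | 0 => (Nat.xor_self 0).symm
  | k + 1 => by
    rw [xfold_succ, xfold_succ, xfold_succ, xfold_xor f g m k]
    simp only [show ∀ a b : ℕ, Nat.xor a b = a ^^^ b from fun _ _ => rfl]
    split_ifs
    · simp only [Nat.xor_assoc, Nat.xor_left_comm]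
    · simp only [Nat.xor_zero]

/-- The sum of a constant over an even set vanishes. -/
theorem xfold_const {m k : ℕ} (h : xfold (fun _ => 1) m k = 0) (c : ℕ) : xfold (fun _ => c) m k = 0 := by
  let f : ℕ → ℕ := fun n => if n.testBit 0 then c else 0
  have h0 : f 0 = 0 := by simp [f]
  have ha : ∀ a b, f (a ^^^ b) = f a ^^^ f b := fun a b => by
    simp only [f, Nat.testBit_xor]
    cases a.testBit 0 <;> cases b.testBit 0 <;> simp
  have e := xfold_hom h0 ha (fun _ => 1) m k
  rw [h, h0] at e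
  simpa [f] using e.symm

theorem cI_lt {i : ℕ} (hi : i < 24) : cI i < 2048 := by
  have : ∀ i : Fin 24, cI i.1 < 2048 := by decide +kernel
  exact this ⟨i, hi⟩

theorem pairCode_eq (x y : GolayPt) : pairCode x y = cI (ix x) ^^^ cI (ix y) := by
  rw [Nat.eq_of_beq_eq_true (forallLt_elim cI_eq (ix_lt x)), Nat.eq_of_beq_eq_true (forallLt_elim cI_eq (ix_lt y)),
    ← lamI_xor]
  rfl

theorem cI_none : cI (ix none) = 0 := by decide +kernel

theorem cI_pair {i : ℕ} (hi : i < 24) : cI i = pairCode (pt i) none := by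
  rw [pairCode_eq, ix_pt hi, cI_none, Nat.xor_zero]

variable {G : Type*} [Group G] [Finite G]

namespace HexBase

variable {S : Setting G} (B : HexBase S)

/-- The images of the points determine the permutation. -/
theorem moves24_of_points {g : G} (hg : g ∈ B.NV) {σ : Equiv.Perm GolayPt} {p : ℕ} (hσ : Rep σ p)
    (h : ∀ i < 24, B.act g (cI i) = cI (pget p i) ^^^ cI (pget p 23)) : B.Moves24 g σ := by
  intro x y
  rw [pairCode_eq, B.act_xor hg, h _ (ix_lt x), h _ (ix_lt y), pairCode_eq, hσ x, hσ y]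
  simp only [Nat.xor_assoc, Nat.xor_left_comm (cI (pget p 23)), Nat.xor_self, Nat.xor_zero]

/-- The action is the map of the permutation. -/
theorem act_pImg {g : G} (hg : g ∈ B.NV) {σ : Equiv.Perm GolayPt} {p : ℕ} (hσ : Rep σ p) (hm : B.Moves24 g σ)
    {n : ℕ} (hn : n < 2048) : B.act g n = pImg p n := by
  have hb : ∀ j < 11, B.act g (2 ^ j) = pCol p j := fun j hj => by
    have h := forallLt_elim base_ok hj
    simp only [Bool.and_eq_true, Nat.beq_eq] at h
    have e : ∀ i < 24, B.act g (cI i) = cI (pget p i) ^^^ cI (ix (σ none)) := fun i hi => by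
      rw [cI_pair hi, hm, pairCode_eq, ← hσ (pt i), ix_pt hi]
    conv_lhs => rw [← h.1, xfold_hom (B.act_zero hg) (B.act_xor hg)]
    rw [xfold_congr _ 24 e, xfold_xor, xfold_const h.2, Nat.xor_zero]
    rfl
  conv_lhs => rw [← Nat.eq_of_beq_eq_true (forallLt_elim bits_ok hn), xfold_hom (B.act_zero hg) (B.act_xor hg)]
  exact xfold_congr _ 11 hb

/-- A translation does not change the action. -/
theorem act_mul_vel {v n : ℕ} (hv : v < 2048) {g : G} (hg : g ∈ B.NV) (hn : n < 2048) :
    B.act (B.vel v * g) n = B.act g n := by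
  have hV : B.vel v ∈ B.NV := Subgroup.le_normalizer (B.vel_mem hv)
  refine B.act_eq (mul_mem hV hg) hn (B.act_lt _ _) ?_
  rw [show B.vel v * g * B.vel n * (B.vel v * g)⁻¹ = B.vel v * (g * B.vel n * g⁻¹) * (B.vel v)⁻¹ by group,
    ← B.vel_act hg hn, (B.vel_comm v (B.act g n)).eq, mul_inv_cancel_right]

theorem W_NV {w : ℕ} (hw : w < 64) : B.W w ∈ B.NV := B.actsV_norm (B.t_actsV hw)

theorem act_W {w : ℕ} (hw : w < 64) {n : ℕ} (hn : n < 2048) : B.act (B.W w) n = tMap w n :=
  B.act_of_actsV (B.t_actsV hw) hn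

theorem moves24_W {w : ℕ} (hw : w < 64) {σ : Equiv.Perm GolayPt} (hσ : Rep σ (wPerm w)) :
    B.Moves24 (B.W w) σ := by
  have h := forallLt_elim wPerm_ok hw
  simp only [Bool.and_eq_true] at h
  refine B.moves24_of_points (B.W_NV hw) hσ fun i hi => ?_
  rw [B.act_W hw (cI_lt hi)]
  exact Nat.eq_of_beq_eq_true (forallLt_elim h.2 hi)

theorem p_NV : B.X.F.p ∈ B.NV := B.actsV_norm B.p_actsV

theorem moves24_p {σ : Equiv.Perm GolayPt} (hσ : Rep σ pPerm) : B.Moves24 B.X.F.p σ := by
  have h := pPerm_ok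
  simp only [Bool.and_eq_true] at h
  refine B.moves24_of_points B.p_NV hσ fun i hi => ?_
  rw [B.act_of_actsV B.p_actsV (cI_lt hi)]
  exact Nat.eq_of_beq_eq_true (forallLt_elim h.2 hi)

end HexBase

end CfsgLib.JankoFour
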