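import Cfsg.Agent.Lib.JankoFourOrder.Sig
import Cfsg.Agent.Lib.JankoFourOrder.Coord.Basic

/-!
# The coordinates on the normalizer of `V` (owner: helper28)

A complement is moved by a coboundary and the outer cocycle until it contains `p` and every `W w`.
-/

set_option autoImplicit false
set_option linter.unusedSectionVars false
set_option maxRecDepth 100000

namespace CfsgLib.JankoFour

open Cfsg CfsgLib.ThreeTrans CfsgLib.JankoFourHexad CfsgLib.JankoFourOrder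
open CfsgLib.Sporadic (Rep forallLt_elim forallLt_iff ix ix_lt pt ix_pt pget isAut exists_M24_elt)

variable {G : Type*} [Group G] [Finite G]

theorem xor_cancel' (a b : ℕ) : a ^^^ (a ^^^ b) = b := by rw [← Nat.xor_assoc, Nat.xor_self, Nat.zero_xor]

namespace HexBase

variable {S : Setting G} (B : HexBase S)

/-- A section of the action on the points. -/
structure Coord (Φ : ↥B.NV →* ↥M24) where
  /-- the section -/
  k : ↥M24 →* G
  hk : ∀ σ, k σ ∈ B.NV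
  sec : ∀ σ, Φ ⟨k σ, hk σ⟩ = σ

namespace Coord

variable {B} {Φ : ↥B.NV →* ↥M24}

/-- Change of a section by a cocycle. -/
noncomputable def twist (hker : ∀ m, Φ m = 1 ↔ (m : G) ∈ B.V) (C : B.Coord Φ) (o : ↥M24 → ℕ)
    (ho : ∀ σ, o σ < 2048) (hmul : ∀ σ τ, o (σ * τ) = o σ ^^^ B.act (C.k σ) (o τ)) : B.Coord Φ where
  k := MonoidHom.mk' (fun σ => B.vel (o σ) * C.k σ) fun σ τ => by
    show B.vel (o (σ * τ)) * C.k (σ * τ) = B.vel (o σ) * C.k σ * (B.vel (o τ) * C.k τ)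
    rw [hmul, map_mul, show o σ ^^^ B.act (C.k σ) (o τ) = Nat.xor (o σ) (B.act (C.k σ) (o τ)) from rfl,
      ← B.vel_xor, B.vel_act (C.hk σ) (ho τ)]
    group
  hk := fun σ => mul_mem (Subgroup.le_normalizer (B.vel_mem (ho σ))) (C.hk σ)
  sec := fun σ => by
    show Φ ⟨B.vel (o σ) * C.k σ, _⟩ = σ
    rw [show (⟨B.vel (o σ) * C.k σ, _⟩ : ↥B.NV) =
      ⟨B.vel (o σ), Subgroup.le_normalizer (B.vel_mem (ho σ))⟩ * ⟨C.k σ, C.hk σ⟩ from rfl, map_mul,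
      (hker ⟨B.vel (o σ), _⟩).2 (B.vel_mem (ho σ)), one_mul, C.sec]

theorem twist_k (hker : ∀ m, Φ m = 1 ↔ (m : G) ∈ B.V) (C : B.Coord Φ) (o : ↥M24 → ℕ)
    (ho : ∀ σ, o σ < 2048) (hmul : ∀ σ τ, o (σ * τ) = o σ ^^^ B.act (C.k σ) (o τ)) (σ : ↥M24) :
    (C.twist hker o ho hmul).k σ = B.vel (o σ) * C.k σ := rfl

variable (hmov : ∀ m : ↥B.NV, B.Moves24 (m : G) ((Φ m : ↥M24) : Equiv.Perm GolayPt))
  (hker : ∀ m, Φ m = 1 ↔ (m : G) ∈ B.V) (C : B.Coord Φ)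
include hmov hker

theorem moves (σ : ↥M24) : B.Moves24 (C.k σ) (σ : Equiv.Perm GolayPt) := by
  have h := hmov ⟨C.k σ, C.hk σ⟩
  rwa [C.sec] at h

theorem phi_eq {g : G} (hg : g ∈ B.NV) {σ : ↥M24} (h : B.Moves24 g σ.1) : Φ ⟨g, hg⟩ = σ :=
  Subtype.ext (B.moves24_unique (hmov ⟨g, hg⟩) h)

/-- Every element is a translation times a lift. -/
theorem code {g : G} (hg : g ∈ B.NV) : ∃ n < 2048, g = B.vel n * C.k (Φ ⟨g, hg⟩) := by
  set σ := Φ ⟨g, hg⟩ with hσ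
  have h : g * (C.k σ)⁻¹ ∈ B.V :=
    (hker (⟨g, hg⟩ * ⟨C.k σ, C.hk σ⟩⁻¹)).1 (by rw [map_mul, map_inv, C.sec, hσ, mul_inv_cancel])
  obtain ⟨n, hn, e⟩ := h
  exact ⟨n, hn, by rw [e, inv_mul_cancel_right]⟩

theorem unique {n m : ℕ} {σ τ : ↥M24} (hn : n < 2048) (hm : m < 2048) (h : B.vel n * C.k σ = B.vel m * C.k τ) :
    n = m ∧ σ = τ := by
  have e : ∀ {n : ℕ} {σ : ↥M24} (hn : n < 2048) (hh : B.vel n * C.k σ ∈ B.NV), Φ ⟨B.vel n * C.k σ, hh⟩ = σ :=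
    fun {n σ} hn hh => by
      rw [show (⟨B.vel n * C.k σ, hh⟩ : ↥B.NV) = ⟨B.vel n, Subgroup.le_normalizer (B.vel_mem hn)⟩ * ⟨C.k σ, C.hk σ⟩
        from rfl, map_mul, (hker ⟨B.vel n, _⟩).2 (B.vel_mem hn), one_mul, C.sec]
  have h1 := e (σ := σ) hn (mul_mem (Subgroup.le_normalizer (B.vel_mem hn)) (C.hk σ))
  have h2 := e (σ := τ) hm (mul_mem (Subgroup.le_normalizer (B.vel_mem hm)) (C.hk τ))
  simp only [h] at h1
  obtain rfl : σ = τ := h1.symm.trans h2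
  exact ⟨B.vel_inj hn hm (mul_right_cancel h), rfl⟩

end Coord

/-- A section exists. -/
theorem exists_coord [IsSimpleGroup G] (hG : ¬ IsMulCommutative G) (hJ : IsOfJankoFourType G)
    {Φ : ↥B.NV →* ↥M24} (hsurj : Function.Surjective Φ) (hker : ∀ m, Φ m = 1 ↔ (m : G) ∈ B.V) :
    Nonempty (B.Coord Φ) := by
  obtain ⟨K, hK, hKV, hKV', -⟩ := B.exists_complement hG hJ
  let ψ : ↥K →* ↥M24 := Φ.comp (Subgroup.inclusion hK)
  have hψ : Function.Bijective ψ := by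
    refine ⟨(injective_iff_map_eq_one ψ).2 fun k hk => ?_, fun σ => ?_⟩
    · have h0 : (k : G) ∈ K ⊓ B.V := ⟨k.2, (hker _).1 hk⟩
      rw [hKV, Subgroup.mem_bot] at h0
      exact Subtype.ext h0
    · obtain ⟨⟨m, hm⟩, rfl⟩ := hsurj σ
      have hm' := hm
      rw [← hKV', ← SetLike.mem_coe, Subgroup.coe_mul_of_left_le_normalizer_right K B.V hK] at hm'
      obtain ⟨k, hk, v, hv, e⟩ := hm'
      refine ⟨⟨k, hk⟩, ?_⟩
      show Φ ⟨k, _⟩ = _
      rw [show (⟨m, hm⟩ : ↥B.NV) = ⟨k, hK hk⟩ * ⟨v, Subgroup.le_normalizer hv⟩ from Subtype.ext e.symm, map_mul,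
        (hker ⟨v, _⟩).2 hv, mul_one]
  let E := MulEquiv.ofBijective ψ hψ
  exact ⟨⟨K.subtype.comp E.symm.toMonoidHom, fun σ => hK (E.symm σ).2, fun σ => E.apply_symm_apply σ⟩⟩

/-- A section through `p`. -/
theorem exists_coord_p [IsSimpleGroup G] (hG : ¬ IsMulCommutative G) (hJ : IsOfJankoFourType G)
    {Φ : ↥B.NV →* ↥M24} (hsurj : Function.Surjective Φ) (hker : ∀ m, Φ m = 1 ↔ (m : G) ∈ B.V)
    (hmov : ∀ m : ↥B.NV, B.Moves24 (m : G) ((Φ m : ↥M24) : Equiv.Perm GolayPt)) :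
    ∃ C : B.Coord Φ, C.k (Φ ⟨B.X.F.p, B.p_NV⟩) = B.X.F.p := by
  obtain ⟨C⟩ := B.exists_coord hG hJ hsurj hker
  set p := B.X.F.p with hp
  set σ := Φ ⟨p, B.p_NV⟩ with hσ
  obtain ⟨u, hu, e⟩ := C.code hmov hker B.p_NV
  rw [← hσ] at e
  have hσ3 : σ ^ 3 = 1 := by
    rw [hσ, ← map_pow, show (⟨p, B.p_NV⟩ : ↥B.NV) ^ 3 = 1 from Subtype.ext B.X.F.p_pow, map_one]
  have hκ3 : C.k σ ^ 3 = 1 := by rw [← map_pow, hσ3, map_one]
  have hact : ∀ {n}, n < 2048 → B.act (C.k σ) n = B.act p n := fun {n} hn => by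
    rw [← B.act_mul_vel hu (C.hk σ) hn, ← e]
  have hsum : u ^^^ B.act p u ^^^ B.act p (B.act p u) = 0 := by
    set P1 := B.act p u
    set P2 := B.act p P1
    have e1 : B.vel P1 = C.k σ * B.vel u * (C.k σ)⁻¹ := by rw [← B.vel_act (C.hk σ) hu, hact hu]
    have e2 : B.vel P2 = C.k σ * B.vel P1 * (C.k σ)⁻¹ := by
      rw [← B.vel_act (C.hk σ) (B.act_lt _ _), hact (B.act_lt _ _)]
    refine B.vel_eq_one (Nat.xor_lt_two_pow (n := 11) (Nat.xor_lt_two_pow (n := 11) hu (B.act_lt _ _)) (B.act_lt _ _)) ?_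
    rw [show u ^^^ P1 ^^^ P2 = Nat.xor (Nat.xor u P1) P2 from rfl, ← B.vel_xor, ← B.vel_xor, e2, e1]
    calc B.vel u * (C.k σ * B.vel u * (C.k σ)⁻¹) * (C.k σ * (C.k σ * B.vel u * (C.k σ)⁻¹) * (C.k σ)⁻¹)
        = (B.vel u * C.k σ) ^ 3 * (C.k σ ^ 3)⁻¹ := by simp only [pow_succ, pow_zero, one_mul]; group
      _ = 1 := by rw [← e, hκ3, B.X.F.p_pow]; simp
  set v := B.act p u with hv
  refine ⟨C.twist hker (fun τ => v ^^^ B.act (C.k τ) v)
    (fun τ => Nat.xor_lt_two_pow (n := 11) (B.act_lt _ _) (B.act_lt _ _)) (fun a b => ?_), ?_⟩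
  · rw [map_mul, B.act_mul (C.hk a) (C.hk b) (B.act_lt _ _), B.act_xor (C.hk a)]
    simp only [hv, Nat.xor_assoc, xor_cancel']
  · rw [Coord.twist_k, hact (B.act_lt _ _)]
    have : v ^^^ B.act p v = u := by
      rw [Nat.xor_assoc, Nat.xor_eq_zero_iff] at hsum
      exact hsum.symm
    rw [this, ← e]

namespace Coord

variable {B} {Φ : ↥B.NV →* ↥M24}

/-- The cocycle at `W w`. -/
theorem exists_cocycle (hmov : ∀ m : ↥B.NV, B.Moves24 (m : G) ((Φ m : ↥M24) : Equiv.Perm GolayPt))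
    (hker : ∀ m, Φ m = 1 ↔ (m : G) ∈ B.V) (C : B.Coord Φ) (hp : C.k (Φ ⟨B.X.F.p, B.p_NV⟩) = B.X.F.p) :
    ∃ v, v < 2048 ∧ gMap 2 v = v ∧ ∃ e : Bool, ∀ w (hw : w < 64), (w = 1 ∨ w = 4 ∨ w = 16) →
      B.W w = B.vel (stdC v e w) * C.k (Φ ⟨B.W w, B.W_NV hw⟩) := by
  classical
  have hc : ∀ w : Fin 64, ∃ c < 2048, B.W w.1 = B.vel c * C.k (Φ ⟨B.W w.1, B.W_NV w.2⟩) :=
    fun w => C.code hmov hker (B.W_NV w.2)
  choose c hclt hc using hc
  have hkw : ∀ (w : Fin 64) {n : ℕ}, n < 2048 → B.act (C.k (Φ ⟨B.W w.1, B.W_NV w.2⟩)) n = tMap w.1 n := by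
    intro w n hn
    rw [← B.act_mul_vel (hclt w) (C.hk _) hn, ← hc w, B.act_W w.2 hn]
  have hP : ∀ {n}, n < 2048 → gMap 2 n < 2048 := fun hn => (B.p_actsV.2 _ hn).1
  -- the relations
  have hW : ∀ a b d : Fin 64, Nat.xor a.1 b.1 = d.1 → c d = c a ^^^ tMap a.1 (c b) := by
    intro a b d h
    have hσ : Φ ⟨B.W d.1, B.W_NV d.2⟩ = Φ ⟨B.W a.1, B.W_NV a.2⟩ * Φ ⟨B.W b.1, B.W_NV b.2⟩ := by
      rw [← map_mul]
      exact congrArg Φ (Subtype.ext (by show B.W d.1 = B.W a.1 * B.W b.1; rw [B.W_xor, h]))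
    refine (C.unique hmov hker (hclt d) (Nat.xor_lt_two_pow (n := 11) (hclt a) (by rw [← hkw a (hclt b)]; exact B.act_lt _ _))
      (σ := Φ ⟨B.W d.1, B.W_NV d.2⟩) (τ := Φ ⟨B.W d.1, B.W_NV d.2⟩) ?_).1
    rw [← hc d, hσ, map_mul, show c a ^^^ tMap a.1 (c b) = Nat.xor (c a) (tMap a.1 (c b)) from rfl, ← B.vel_xor,
      ← hkw a (hclt b), B.vel_act (C.hk _) (hclt b), ← h, ← B.W_xor]
    conv_lhs => rw [hc a, hc b]
    group
  have hg : ∀ {g : G} (hg : g ∈ B.NV) {f : ℕ → ℕ}, B.ActsV g f → ∀ {t : ℕ}, t < 2048 →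
      g = B.vel t * C.k (Φ ⟨g, hg⟩) → ∀ (w w' : Fin 64), g * B.W w.1 * g⁻¹ = B.W w'.1 →
      c w' = f (c w) ^^^ t ^^^ tMap w'.1 t := by
    intro g hg f hf t ht e w w' hconj
    set σ := Φ ⟨g, hg⟩
    set τ := Φ ⟨B.W w.1, B.W_NV w.2⟩
    have hσ : Φ ⟨B.W w'.1, B.W_NV w'.2⟩ = σ * τ * σ⁻¹ := by
      rw [← map_inv, ← map_mul, ← map_mul]
      exact congrArg Φ (Subtype.ext hconj.symm)
    have hf' := (hf.2 _ (hclt w)).1
    have hlt : tMap w'.1 t < 2048 := by rw [← hkw w' ht]; exact B.act_lt _ _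
    refine (C.unique hmov hker (hclt w')
      (Nat.xor_lt_two_pow (n := 11) (Nat.xor_lt_two_pow (n := 11) hf' ht) hlt)
      (σ := Φ ⟨B.W w'.1, B.W_NV w'.2⟩) (τ := Φ ⟨B.W w'.1, B.W_NV w'.2⟩) ?_).1
    rw [← hc w', show f (c w) ^^^ t ^^^ tMap w'.1 t = Nat.xor (Nat.xor (f (c w)) t) (tMap w'.1 t) from rfl,
      ← B.vel_xor, ← B.vel_xor, ← hkw w' ht, B.vel_act (C.hk _) ht, hσ, map_mul, map_mul, map_inv, ← hconj]
    have h2 : B.vel (f (c w)) = C.k σ * B.vel (c w) * (C.k σ)⁻¹ := by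
      rw [← B.vel_act (C.hk σ) (hclt w), ← B.act_mul_vel ht (C.hk σ) (hclt w), ← e,
        B.act_of_actsV hf (hclt w)]
    rw [(B.vel_comm (f (c w)) t).eq, h2]
    have hcw : B.W w.1 = B.vel (c w) * C.k τ := hc w
    conv_lhs => rw [hcw, e]
    simp only [mul_inv_rev, inv_eq_of_mul_eq_one_right (B.vel_sq t)]
    group
  -- the codes of translations
  have hcode : ∀ {g : G} (hg : g ∈ B.NV), Commute g B.X.F.p →
      ∃ t < 2048, g = B.vel t * C.k (Φ ⟨g, hg⟩) ∧ gMap 2 t = t := by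
    intro g hgm hgp
    obtain ⟨t, ht, e⟩ := C.code hmov hker hgm
    refine ⟨t, ht, e, ?_⟩
    set σ := Φ ⟨g, hgm⟩
    set π := Φ ⟨B.X.F.p, B.p_NV⟩
    have hσ : π * σ * π⁻¹ = σ := by
      rw [← map_inv, ← map_mul, ← map_mul]
      exact congrArg Φ (Subtype.ext (by
        show B.X.F.p * g * B.X.F.p⁻¹ = g
        rw [← hgp.eq, mul_inv_cancel_right]))
    refine (C.unique hmov hker (hP ht) ht (σ := σ) (τ := σ) ?_).1
    rw [← (B.p_actsV.2 t ht).2, ← e]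
    conv_lhs => rw [← hσ, map_mul, map_mul, map_inv, hp]
    calc B.X.F.p * B.vel t * B.X.F.p⁻¹ * (B.X.F.p * C.k σ * B.X.F.p⁻¹)
        = B.X.F.p * (B.vel t * C.k σ) * B.X.F.p⁻¹ := by group
      _ = g := by rw [← e, ← hgp.eq, mul_inv_cancel_right]
  obtain ⟨ta, hta, ea, hfa⟩ := hcode (B.actsV_norm B.a_actsV) (B.X.F.commute_p B.X.F.haC)
  obtain ⟨tb, htb, eb, hfb⟩ := hcode (B.actsV_norm B.b_actsV) (B.X.F.commute_p B.X.F.hbC)
  obtain ⟨⟨⟨⟨⟨⟨⟨m1, m2⟩, m3⟩, m4⟩, m5⟩, m6⟩, m7⟩, m8⟩ :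
      (((((((mP 1 = 2 ∧ mP 2 = 3) ∧ mP 4 = 8) ∧ mP 16 = 32) ∧ mA 1 = 1) ∧ mB 1 = 4) ∧ mB 4 = 16) ∧ mB 16 = 1) := by
    have h := mul_tables
    simp only [Bool.and_eq_true, Nat.beq_eq] at h
    exact h
  have hpc : ∀ w w' : Fin 64, mP w.1 = w'.1 → c w' = gMap 2 (c w) := fun w w' h => by
    have := hg B.p_NV B.p_actsV (t := 0) (by norm_num) (by rw [B.vel_zero, one_mul, hp]) w w'
      (by rw [(B.p_acts w.1 w.2).2.2, h])
    rw [this, Nat.xor_zero, ← hkw w' (by norm_num), B.act_zero (C.hk _), Nat.xor_zero]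
  have hA := hg (B.actsV_norm B.a_actsV) B.a_actsV hta ea ⟨1, by norm_num⟩ ⟨1, by norm_num⟩
    (by rw [(B.a_acts 1 (by norm_num)).2.2, m5])
  have hb : ∀ (w : ℕ) (hw : w < 64) (w' : ℕ) (hw' : w' < 64), mB w = w' →
      c ⟨w', hw'⟩ = nextC (c ⟨w, hw⟩) tb w' := fun w hw w' hw' h =>
    hg (B.actsV_norm B.b_actsV) B.b_actsV htb eb ⟨w, hw⟩ ⟨w', hw'⟩ (by rw [(B.b_acts w hw).2.2, h])
  set c1 := c ⟨1, by norm_num⟩ with hc1
  have h2 := hpc ⟨1, by norm_num⟩ ⟨2, by norm_num⟩ m1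
  have h3 := hpc ⟨2, by norm_num⟩ ⟨3, by norm_num⟩ m2
  rw [← hc1] at h2
  rw [h2] at h3
  have h0 : c ⟨0, by norm_num⟩ = 0 := by
    refine (C.unique hmov hker (hclt _) (by norm_num) (σ := Φ ⟨B.W 0, B.W_NV (by norm_num)⟩) (τ := 1) ?_).1
    rw [← hc ⟨0, by norm_num⟩, B.vel_zero, one_mul, map_one, B.W_zero]
  have hfix := (forallLt_iff _ _).1 ((Bool.and_eq_true_iff.1 fx_ok).1)
  have hfx : ∀ {n}, n < 2048 → gMap 2 n = n → ∃ i < 32, fx i = n := fun {n} hn h => by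
    have h' := hfix n hn
    simp only [h, Nat.beq_refl, Bool.not_true, Bool.false_or, Bool.not_eq_true'] at h'
    by_contra hno
    simp only [not_exists, not_and] at hno
    rw [(forallLt_iff _ _).2 fun i hi => by
      rw [Bool.not_eq_true', Bool.eq_false_iff]
      exact fun h => hno i hi (Nat.eq_of_beq_eq_true h)] at h'
    simp at h'
  obtain ⟨ia, hia, efa⟩ := hfx hta hfa
  obtain ⟨ib, hib, efb⟩ := hfx htb hfb
  have hgood : goodC c1 = true := by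
    simp only [goodC, Bool.and_eq_true, Nat.beq_eq]
    refine ⟨?_, ?_, ?_, ?_⟩
    · have := hW ⟨1, by norm_num⟩ ⟨1, by norm_num⟩ ⟨0, by norm_num⟩ rfl
      rw [h0] at this
      exact (Nat.xor_eq_zero_iff.1 this.symm).symm
    · have := hW ⟨1, by norm_num⟩ ⟨2, by norm_num⟩ ⟨3, by norm_num⟩ rfl
      rw [h3, ← hc1, h2] at this
      exact this
    · have e1 := hW ⟨1, by norm_num⟩ ⟨2, by norm_num⟩ ⟨3, by norm_num⟩ rfl
      have e2 := hW ⟨2, by norm_num⟩ ⟨1, by norm_num⟩ ⟨3, by norm_num⟩ rfl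
      rw [← hc1, h2] at e1 e2
      exact e1.symm.trans e2
    · rw [Bool.not_eq_true', Bool.eq_false_iff, Ne, forallLt_iff]
      intro hall
      have := hall ia hia
      rw [efa, show Nat.xor (Nat.xor (gMap 0 c1) ta) (tMap 1 ta) = c1 from hA.symm, Nat.beq_refl] at this
      simp at this
  have hsol := forallLt_elim cocycle_solve (hclt ⟨1, by norm_num⟩)
  rw [← hc1, hgood] at hsol
  simp only [Bool.not_true, Bool.false_or] at hsol
  have hsol' := forallLt_elim hsol hib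
  rw [efb] at hsol'
  have hb4 := hb 1 (by norm_num) 4 (by norm_num) m6
  have hb16 := hb 4 (by norm_num) 16 (by norm_num) m7
  have hb1 := hb 16 (by norm_num) 1 (by norm_num) m8
  rw [← hc1] at hb4 hb1
  rw [hb4] at hb16
  rw [← hb16, ← hb1, Nat.beq_refl] at hsol'
  simp only [Bool.not_true, Bool.false_or, Bool.not_eq_true'] at hsol'
  obtain ⟨k, hk, hk'⟩ : ∃ k < 64, (Nat.beq (stdC (fx (Nat.shiftRight k 1)) (Nat.testBit k 0) 1) c1 &&
        (Nat.beq (stdC (fx (Nat.shiftRight k 1)) (Nat.testBit k 0) 4) (nextC c1 tb 4) &&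
          Nat.beq (stdC (fx (Nat.shiftRight k 1)) (Nat.testBit k 0) 16) (c ⟨16, by norm_num⟩))) = true := by
    by_contra hno
    simp only [not_exists, not_and] at hno
    rw [(forallLt_iff _ _).2 fun i hi => by rw [Bool.not_eq_true', Bool.eq_false_iff]; exact hno i hi] at hsol'
    simp at hsol'
  simp only [Bool.and_eq_true, Nat.beq_eq] at hk'
  rw [← hb4] at hk'
  have h32 : Nat.shiftRight k 1 < 32 := by
    show k >>> 1 < 32
    rw [Nat.shiftRight_eq_div_pow]; omega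
  have hfx2 := forallLt_elim (Bool.and_eq_true_iff.1 fx_ok).2 h32
  simp only [Bool.and_eq_true, Nat.blt_eq, Nat.beq_eq] at hfx2
  refine ⟨_, hfx2.1, hfx2.2, k.testBit 0, fun w hw hcases => ?_⟩
  rcases hcases with rfl | rfl | rfl
  · rw [hk'.1]; exact hc ⟨1, hw⟩
  · rw [hk'.2.1]; exact hc ⟨4, hw⟩
  · rw [hk'.2.2]; exact hc ⟨16, hw⟩

end Coord

/-- **The coordinates exist.** -/
theorem exists_nvModel [IsSimpleGroup G] (hG : ¬ IsMulCommutative G) (hJ : IsOfJankoFourType G) :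
    B.NVModelStatement := by
  classical
  obtain ⟨Φ, hsurj, hker, hmov⟩ := B.exists_phi hG hJ
  obtain ⟨C, hp⟩ := B.exists_coord_p hG hJ hsurj hker hmov
  obtain ⟨v, hv, hfv, e, hstd⟩ := C.exists_cocycle hmov hker hp
  set x0 : GolayPt := pt 2 with hx0
  let o : ↥M24 → ℕ := fun σ =>
    (if e then pairCode x0 ((σ : Equiv.Perm GolayPt) x0) else 0) ^^^ (v ^^^ B.act (C.k σ) v)
  have ho : ∀ σ, o σ < 2048 := fun σ => Nat.xor_lt_two_pow (n := 11)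
    (by split_ifs; exacts [pairCode_lt _ _, by norm_num]) (Nat.xor_lt_two_pow (n := 11) hv (B.act_lt _ _))
  have hmul : ∀ σ τ, o (σ * τ) = o σ ^^^ B.act (C.k σ) (o τ) := by
    intro σ τ
    simp only [o]
    rw [B.act_xor (C.hk σ), B.act_xor (C.hk σ), map_mul, B.act_mul (C.hk σ) (C.hk τ) hv]
    cases e
    · simp only [Bool.false_eq_true, if_false, B.act_zero (C.hk σ), Nat.zero_xor, Nat.xor_assoc, xor_cancel']
    · simp only [if_true]
      rw [C.moves hmov hker σ x0]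
      have e1 : pairCode x0 ((σ * τ : ↥M24).1 x0) =
          pairCode x0 (σ.1 x0) ^^^ pairCode (σ.1 x0) (σ.1 (τ.1 x0)) := by
        rw [show (σ * τ : ↥M24).1 x0 = σ.1 (τ.1 x0) from rfl, pairCode_eq, pairCode_eq, pairCode_eq]
        simp only [Nat.xor_assoc, xor_cancel']
      rw [e1]
      simp only [Nat.xor_assoc, Nat.xor_left_comm, xor_cancel']
  let D := C.twist hker o ho hmul
  have hphi : ∀ {g : G} (hg : g ∈ B.NV) (σ : ↥M24), B.Moves24 g σ.1 → Φ ⟨g, hg⟩ = σ :=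
    fun hg σ h => Subtype.ext (B.moves24_unique (hmov ⟨_, hg⟩) h)
  have hDp : D.k (Φ ⟨B.X.F.p, B.p_NV⟩) = B.X.F.p := by
    have hP := pPerm_ok
    simp only [Bool.and_eq_true, Nat.beq_eq] at hP
    obtain ⟨σ, hσ⟩ := exists_M24_elt hP.1.1
    rw [Coord.twist_k, hp]
    have h1 : B.act (C.k (Φ ⟨B.X.F.p, B.p_NV⟩)) v = v := by
      rw [hp, B.act_of_actsV B.p_actsV hv, hfv]
    have h2 : ((Φ ⟨B.X.F.p, B.p_NV⟩ : ↥M24) : Equiv.Perm GolayPt) x0 = x0 := by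
      rw [hphi B.p_NV σ (B.moves24_p hσ)]
      have := hσ x0
      rw [hx0, ix_pt (by norm_num), hP.1.2] at this
      rw [hx0, ← CfsgLib.Sporadic.pt_ix (σ.1 (pt 2)), ← this]
    simp only [o, h1, h2, pairCode_eq, Nat.xor_self, ite_self, B.vel_zero, one_mul]
  have hgen : ∀ (w : ℕ) (hw : w < 64), (w = 1 ∨ w = 4 ∨ w = 16) → D.k (Φ ⟨B.W w, B.W_NV hw⟩) = B.W w := by
    intro w hw hcases
    have hW := forallLt_elim wPerm_ok hw
    simp only [Bool.and_eq_true] at hW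
    obtain ⟨σ, hσ⟩ := exists_M24_elt hW.1
    have hπ := hphi (B.W_NV hw) σ (B.moves24_W hw hσ)
    rw [Coord.twist_k]
    have e0 := hstd w hw hcases
    have hlt : stdC v e w < 2048 := by
      unfold stdC
      refine Nat.xor_lt_two_pow (n := 11) (Nat.xor_lt_two_pow (n := 11) hv ?_) ?_
      · rw [← B.act_W hw hv]; exact B.act_lt _ _
      · split_ifs
        · refine Nat.xor_lt_two_pow (n := 11) (cI_lt (by norm_num)) (cI_lt ?_)
          have := hσ (pt 2)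
          rw [ix_pt (by norm_num)] at this
          rw [this]; exact ix_lt _
        · norm_num
    have h1 : B.act (C.k (Φ ⟨B.W w, B.W_NV hw⟩)) v = tMap w v := by
      rw [← B.act_mul_vel hlt (C.hk _) hv, ← e0, B.act_W hw hv]
    have h3 : oI (wPerm w) = pairCode x0 (((Φ ⟨B.W w, B.W_NV hw⟩ : ↥M24) : Equiv.Perm GolayPt) x0) := by
      rw [hπ, pairCode_eq, ← hσ x0, hx0, ix_pt (by norm_num)]
      rfl
    conv_rhs => rw [e0]
    congr 2
    simp only [o, stdC, h1, ← h3]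
    simp only [show ∀ a b : ℕ, Nat.xor a b = a ^^^ b from fun _ _ => rfl]
    simp only [Nat.xor_comm, Nat.xor_left_comm, Nat.xor_assoc]
  have hgood : ∀ {a b : G} (ha : a ∈ B.NV) (hb : b ∈ B.NV), D.k (Φ ⟨a, ha⟩) = a → D.k (Φ ⟨b, hb⟩) = b →
      D.k (Φ ⟨a * b, mul_mem ha hb⟩) = a * b := fun {a b} ha hb h1 h2 => by
    rw [show (⟨a * b, mul_mem ha hb⟩ : ↥B.NV) = ⟨a, ha⟩ * ⟨b, hb⟩ from rfl, map_mul, map_mul, h1, h2]
  let Good : ℕ → Prop := fun w => ∃ hw : w < 64, D.k (Φ ⟨B.W w, B.W_NV hw⟩) = B.W w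
  have gxor : ∀ {a b}, Good a → Good b → Good (Nat.xor a b) := by
    rintro a b ⟨ha, h1⟩ ⟨hb, h2⟩
    refine ⟨Nat.xor_lt_two_pow (n := 6) ha hb, ?_⟩
    have h := hgood (B.W_NV ha) (B.W_NV hb) h1 h2
    simp only [B.W_xor] at h
    exact h
  have gp : ∀ {a}, Good a → Good (mP a) := by
    rintro a ⟨ha, h1⟩
    obtain ⟨hlt, -, hconj⟩ := B.p_acts a ha
    refine ⟨hlt, ?_⟩
    have h := hgood (mul_mem B.p_NV (B.W_NV ha)) (inv_mem B.p_NV) (hgood B.p_NV (B.W_NV ha) hDp h1) (by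
      rw [show (⟨B.X.F.p⁻¹, inv_mem B.p_NV⟩ : ↥B.NV) = ⟨B.X.F.p, B.p_NV⟩⁻¹ from rfl, map_inv, map_inv, hDp])
    simp only [hconj] at h
    exact h
  obtain ⟨⟨⟨⟨⟨⟨⟨m1, -⟩, m3⟩, m4⟩, -⟩, -⟩, -⟩, -⟩ :
      (((((((mP 1 = 2 ∧ mP 2 = 3) ∧ mP 4 = 8) ∧ mP 16 = 32) ∧ mA 1 = 1) ∧ mB 1 = 4) ∧ mB 4 = 16) ∧ mB 16 = 1) := by
    have h := mul_tables
    simp only [Bool.and_eq_true, Nat.beq_eq] at h
    exact h
  have g1 : Good 1 := ⟨by norm_num, hgen 1 (by norm_num) (Or.inl rfl)⟩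
  have g4 : Good 4 := ⟨by norm_num, hgen 4 (by norm_num) (Or.inr (Or.inl rfl))⟩
  have g16 : Good 16 := ⟨by norm_num, hgen 16 (by norm_num) (Or.inr (Or.inr rfl))⟩
  have g0 : Good 0 := by have := gxor g1 g1; rwa [show Nat.xor 1 1 = 0 from rfl] at this
  have gall : ∀ w < 64, Good w := by
    have g2 := gp g1; rw [m1] at g2
    have g8 := gp g4; rw [m3] at g8
    have g32 := gp g16; rw [m4] at g32
    have hb : ∀ j < 6, Good (2 ^ j) := fun j hj => by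
      interval_cases j
      exacts [g1, g2, g4, g8, g16, g32]
    have hx : ∀ m, ∀ k ≤ 6, Good (xfold (fun j => 2 ^ j) m k) := by
      intro m k
      induction k with
      | zero => exact fun _ => g0
      | succ k ih =>
        intro hk
        rw [xfold_succ]
        refine gxor (ih (by omega)) ?_
        split_ifs
        exacts [hb k (by omega), g0]
    intro w hw
    have e1 : ∀ w : Fin 64, xfold (fun j => 2 ^ j) w.1 6 = w.1 := by decide +kernel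
    have h6 := hx w 6 le_rfl
    rwa [show xfold (fun j => 2 ^ j) w 6 = w from e1 ⟨w, hw⟩] at h6
  refine ⟨⟨D.k, D.hk, fun σ p hr n hn => ?_, fun n m σ τ hn hm h => D.unique hmov hker hn hm h,
    fun g hg => ?_, fun w hw σ hr => ?_, fun σ hr => ?_⟩⟩
  · have h := B.act_pImg (D.hk σ) hr (D.moves hmov hker σ) hn
    exact ⟨h ▸ B.act_lt _ _, by rw [← h, B.vel_act (D.hk σ) hn]⟩
  · obtain ⟨n, hn, h⟩ := D.code hmov hker hg
    exact ⟨n, hn, _, h⟩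
  · obtain ⟨_, h⟩ := gall w hw
    rwa [hphi (B.W_NV hw) σ (B.moves24_W hw hr)] at h
  · have := hDp
    rwa [hphi B.p_NV σ (B.moves24_p hr)] at this

end HexBase

end CfsgLib.JankoFour
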