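import Cfsg.Agent.Lib.JankoFourOrder.Coord.Checks
import Cfsg.Agent.Lib.JankoFourTen.Data
import Cfsg.Agent.Lib.JankoFourHexad.OrbitChecks

/-!
# Finite checks for the classes of the involutions of the normalizer of `V` (owner: helper28)
-/

set_option autoImplicit false
set_option maxRecDepth 100000

namespace CfsgLib.JankoFourOrder

open CfsgLib.Sporadic CfsgLib.JankoFourHexad
open CfsgLib.ThreeTrans.M24Inv (peq)

/-- The commutator space of `W 1` or of `W 22`, as a bit mask. -/
noncomputable def iMask (w : ℕ) : ℕ :=
  if Nat.beq w 1 then 77884457520297561748149968484433935 else 4240809424805238109668837033617928195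

/-- The fixed point free coset beside the commutator space. -/
def freeRep : ℕ := 4

/-- The target class beside the commutator space. -/
def eightRep : ℕ := 256

theorem iMask_ok : (forallLt 2048 (fun u => Nat.testBit (iMask 1) (Nat.xor u (tMap 1 u))) &&
    forallLt 2048 (fun n => !Nat.testBit (iMask 1) n || !forallLt 2048 fun u => !Nat.beq n (Nat.xor u (tMap 1 u))) &&
    forallLt 2048 (fun u => Nat.testBit (iMask 22) (Nat.xor u (tMap 22 u))) &&
    forallLt 2048 (fun n => !Nat.testBit (iMask 22) n ||
      !forallLt 2048 fun u => !Nat.beq n (Nat.xor u (tMap 22 u)))) = true := by decide +kernel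

theorem free_split : (!Nat.testBit (iMask 22) freeRep && Nat.testBit (iMask 22) 0 && forallLt 2048 fun n =>
    !Nat.beq (tMap 22 n) n || Nat.testBit (iMask 22) n || Nat.testBit (iMask 22) (Nat.xor n freeRep)) = true := by
  decide +kernel

theorem eight_split : (!Nat.testBit (iMask 1) 8 && Nat.testBit (iMask 1) 0 && Nat.beq (tMap 1 8) 8 &&
    forallLt 7 (fun k => isAut (CfsgLib.JankoFour.Ten.centPerms.getD k 0) &&
      peq (pmul (CfsgLib.JankoFour.Ten.centPerms.getD k 0) (wPerm 1))
        (pmul (wPerm 1) (CfsgLib.JankoFour.Ten.centPerms.getD k 0))) &&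
    forallLt 2048 fun n => !Nat.beq (tMap 1 n) n || Nat.testBit (iMask 1) n ||
      !forallLt 7 fun k => !Nat.testBit (iMask 1)
        (Nat.xor (pImg (CfsgLib.JankoFour.Ten.centPerms.getD k 0) n) eightRep)) = true := by decide +kernel

/-- The coset element `vel n * W w` is taken by a word into the first fixed space at `u`. -/
noncomputable def certE (w n j u : ℕ) (d : Bool) : Bool :=
  Nat.blt n 128 && Nat.blt j 77 && Nat.blt u 64 && !Nat.beq u 0 &&
    Nat.beq (qWord (wordData.getD j []) u) (eU n + 64 * w) &&
    (Nat.testBit dMask (2 * u) == d) && (Nat.testBit dMask (2 * u + 1) == d)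

theorem cert_table : (certE 1 0 46 44 false && certE 1 8 14 4 true && certE 22 0 76 63 true &&
    certE 22 4 6 22 false) = true := by decide +kernel

theorem wPerm_fix : (Nat.beq (fixCount (wPerm 1)) 8 && Nat.beq (fixCount (wPerm 22)) 0 &&
    Nat.beq (fixCount pone) 24) = true := by decide +kernel

end CfsgLib.JankoFourOrder
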