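import Cfsg.Agent.Lib.JankoFourOrder.Sig
import Cfsg.Agent.Lib.JankoFourOrder.Coord.Basic
import Cfsg.Agent.Lib.JankoFourOrder.Coord.TypeChecks
import Cfsg.Agent.Lib.JankoFourHexad.Cent
import Cfsg.Agent.Lib.JankoFourHexad.Orbits

/-!
# The classes of the involutions of the normalizer of `V`, in coordinates (owner: helper28)

An involution `vel n * k σ` outside `V` is conjugate under `N(V)` to `vel n' * W 1` or `vel n' * W 22`; the coset
of the commutator space tells the two classes apart.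
-/

set_option autoImplicit false
set_option linter.unusedSectionVars false
set_option maxRecDepth 100000

namespace CfsgLib.JankoFour

open Cfsg CfsgLib.ThreeTrans CfsgLib.JankoFourHexad CfsgLib.JankoFourOrder
open CfsgLib.Sporadic (Rep forallLt forallLt_elim forallLt_iff ix ix_lt ix_inj image_ix_univ countLt_eq pget pone isAut
  exists_M24_elt)
open CfsgLib.ThreeTrans.M24Inv (peq peq_iff)

/-- The number of fixed points, as a cardinality. -/
theorem fixCount_rep {σ : Equiv.Perm GolayPt} {p : ℕ} (h : Rep σ p) :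
    fixCount p = (Finset.univ.filter fun x => σ x = x).card := by
  rw [fixCount, countLt_eq, ← image_ix_univ, Finset.filter_image,
    Finset.card_image_of_injective _ CfsgLib.Sporadic.ix_injective]
  refine congrArg Finset.card (Finset.filter_congr fun x _ => ?_)
  rw [Nat.beq_eq, h x, ix_inj]

variable {G : Type*} [Group G] [Finite G]

namespace HexBase

variable {S : Setting G} (B : HexBase S)

/-- The class of a translate of `W w` read off at the centralizer of `z`. -/
theorem cert_coset [IsSimpleGroup G] (hG : ¬ IsMulCommutative G) (hJ : IsOfJankoFourType G) {w n j u : ℕ} {d : Bool}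
    (hw : w < 64) (h : certE w n j u d = true) : IsConj S.z (B.vel n * B.W w) ↔ d = false := by
  simp only [certE, Bool.and_eq_true, Nat.blt_eq, beq_iff_eq, Bool.not_eq_true'] at h
  obtain ⟨⟨⟨⟨⟨⟨hn, hj⟩, hu⟩, hu0⟩, hq⟩, hd0⟩, hd1⟩ := h
  obtain ⟨t, htC, ht⟩ := B.exists_word _ (word_ok ⟨j, hj⟩).1
  obtain ⟨-, hc⟩ := ht u (by omega)
  rw [Nat.eq_of_beq_eq_true hq] at hc
  have heU : eU n < 64 := by
    show (n >>> 1) &&& (2 ^ 6 - 1) < 64
    rw [Nat.and_two_pow_sub_one_eq_mod]
    exact Nat.mod_lt _ (by norm_num)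
  have hq1 : B.q (eU n + 64 * w) = B.U (eU n) * B.W w := by
    rw [q, show (eU n + 64 * w) % 64 = eU n by omega, show (eU n + 64 * w) / 64 = w by omega]
  have hqu : B.q u = B.U u := by rw [q, Nat.mod_eq_of_lt hu, Nat.div_eq_of_lt hu, W_zero, mul_one]
  rw [hq1, hqu] at hc
  set c := t * B.U u * t⁻¹ * (B.U (eU n) * B.W w)⁻¹ with hcdef
  have hW : eW n = 0 := by
    show n >>> 7 = 0
    rw [Nat.shiftRight_eq_div_pow]; omega
  have hx : B.vel n * B.W w = t * (zpar S.z n * c⁻¹ * B.U u) * t⁻¹ := by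
    have hcz : zpar S.z n * c⁻¹ ∈ Subgroup.zpowers S.z := by
      refine mul_mem ?_ (inv_mem hc)
      rcases zpar_mem (c := S.z) n with e | e <;> rw [e]
      exacts [one_mem _, Subgroup.mem_zpowers _]
    rw [show t * (zpar S.z n * c⁻¹ * B.U u) * t⁻¹ = t * (zpar S.z n * c⁻¹) * t⁻¹ * (t * B.U u * t⁻¹) by group,
      z_pow_comm (Frame.commute_z htC) hcz, show t * B.U u * t⁻¹ = c * (B.U (eU n) * B.W w) by rw [hcdef]; group,
      ← B.el_vel hn, el, hW, W_zero]
    group
  have hmem : ∃ m, (m = 2 * u ∨ m = 2 * u + 1) ∧ zpar S.z n * c⁻¹ * B.U u = B.vel m := by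
    have key : ∀ b < 2, B.vel (2 * u + b) = zpar S.z b * B.U u := fun b hb => by
      have h1 : eU (2 * u + b) = u := by
        show ((2 * u + b) >>> 1) &&& (2 ^ 6 - 1) = u
        rw [Nat.and_two_pow_sub_one_eq_mod, Nat.shiftRight_eq_div_pow]; omega
      have h2 : eW (2 * u + b) = 0 := by
        show (2 * u + b) >>> 7 = 0
        rw [Nat.shiftRight_eq_div_pow]; omega
      have h3 : zpar S.z (2 * u + b) = zpar S.z b := by
        unfold zpar
        rw [Nat.testBit_zero, Nat.testBit_zero, show (2 * u + b) % 2 = b % 2 by omega]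
      rw [← B.el_vel (by omega), el, h1, h2, h3, W_zero, mul_one]
    rcases S.hE.eq_or (show zpar S.z n * c⁻¹ ∈ Subgroup.zpowers S.z from mul_mem (by
      rcases zpar_mem (c := S.z) n with e | e <;> rw [e]
      exacts [one_mem _, Subgroup.mem_zpowers _]) (inv_mem hc)) with e | e <;> rw [e]
    · exact ⟨2 * u, Or.inl rfl, by rw [show 2 * u = 2 * u + 0 from rfl, key 0 (by norm_num), zpar_zero]⟩
    · exact ⟨2 * u + 1, Or.inr rfl, by rw [key 1 (by norm_num), zpar_one]⟩
  obtain ⟨m, hm, e⟩ := hmem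
  rw [hx, e]
  obtain ⟨-, hD, -⟩ := B.duads_spec hG hJ
  have hmd : dMask.testBit m = d := by rcases hm with rfl | rfl <;> assumption
  have hm0 : m ≠ 0 := by
    have : u ≠ 0 := fun e => by rw [e] at hu0; simp at hu0
    omega
  have hconj : IsConj (B.vel m) (t * B.vel m * t⁻¹) := isConj_iff.2 ⟨t, rfl⟩
  have hm2 : m < 2048 := by omega
  constructor
  · intro hz
    rw [← hmd]
    exact Bool.eq_false_iff.2 fun hb => ((hD m hm2).1 hb).2 (hz.trans hconj.symm)
  · rintro rfl
    refine (show IsConj S.z (B.vel m) from ?_).trans hconj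
    by_contra hz
    rw [(hD m hm2).2 ⟨hm0, hz⟩] at hmd
    exact Bool.noConfusion hmd

theorem vel_inv (n : ℕ) : (B.vel n)⁻¹ = B.vel n := inv_eq_of_mul_eq_one_right (B.vel_sq n)

/-- Conjugation of a translate of `g` by a translation. -/
theorem conj_shift {g : G} (hg : g ∈ B.NV) {n u : ℕ} (hu : u < 2048) :
    B.vel u * (B.vel n * g) * (B.vel u)⁻¹ = B.vel (n ^^^ (u ^^^ B.act g u)) * g := by
  rw [B.vel_inv, show B.vel u * (B.vel n * g) * B.vel u = B.vel u * B.vel n * (g * B.vel u * g⁻¹) * g by group,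
    ← B.vel_act hg hu, B.vel_xor, B.vel_xor]
  congr 2
  show u ^^^ n ^^^ B.act g u = n ^^^ (u ^^^ B.act g u)
  ac_rfl

theorem isConj_shift {g : G} (hg : g ∈ B.NV) {n u : ℕ} (hu : u < 2048) :
    IsConj (B.vel n * g) (B.vel (n ^^^ (u ^^^ B.act g u)) * g) :=
  isConj_iff.2 ⟨B.vel u, B.conj_shift hg hu⟩

namespace NVModel

variable {B} (M : B.NVModel)

theorem act_k {σ : ↥M24} {p : ℕ} (hp : Rep σ.1 p) {n : ℕ} (hn : n < 2048) : B.act (M.k σ) n = pImg p n :=
  B.act_eq (M.hk σ) hn (M.hact σ p hp n hn).1 (M.hact σ p hp n hn).2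

/-- A conjugate of a lift has its translation in the commutator space. -/
theorem img_of_conj {n : ℕ} {σ τ : ↥M24} (hn : n < 2048) {g : G} (hg : g ∈ B.NV)
    (h : B.vel n * M.k σ = g * M.k τ * g⁻¹) :
    (∃ u < 2048, n = u ^^^ B.act (M.k σ) u) ∧ ∃ ρ : ↥M24, σ = ρ * τ * ρ⁻¹ := by
  obtain ⟨u, hu, ρ, rfl⟩ := M.hdec g hg
  have e : B.vel u * M.k ρ * M.k τ * (B.vel u * M.k ρ)⁻¹ =
      B.vel (u ^^^ B.act (M.k (ρ * τ * ρ⁻¹)) u) * M.k (ρ * τ * ρ⁻¹) := by
    have h1 := B.conj_shift (M.hk (ρ * τ * ρ⁻¹)) (n := 0) hu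
    rw [Nat.zero_xor, B.vel_zero, one_mul] at h1
    rw [← h1, map_mul, map_mul, map_inv]
    group
  rw [e] at h
  obtain ⟨h1, h2⟩ := M.hinj _ _ _ _ hn (Nat.xor_lt_two_pow (n := 11) hu (B.act_lt _ _)) h
  exact ⟨⟨u, hu, by rw [h2]; exact h1⟩, ρ, h2⟩

theorem inImg_iff {σ : ↥M24} {p : ℕ} (hp : Rep σ.1 p) (n : ℕ) :
    inImg p n = true ↔ ∃ u < 2048, n = u ^^^ B.act (M.k σ) u := by
  rw [inImg, Bool.not_eq_true', Bool.eq_false_iff, ne_eq, forallLt_iff, not_forall]
  constructor
  · rintro ⟨u, hu⟩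
    simp only [not_forall, exists_prop, Bool.not_eq_true', Bool.eq_false_iff, not_not, ne_eq] at hu
    obtain ⟨hu, e⟩ := hu
    refine ⟨u, hu, ?_⟩
    rw [M.act_k hp hu, Nat.eq_of_beq_eq_true e, Nat.xor_comm]
    rfl
  · rintro ⟨u, hu, e⟩
    rw [M.act_k hp hu, Nat.xor_comm] at e
    refine ⟨u, fun h => ?_⟩
    have h' := h hu
    rw [show Nat.xor (pImg p u) u = pImg p u ^^^ u from rfl, ← e, Nat.beq_refl] at h'
    exact Bool.noConfusion h'

theorem fixCount_conj {σ τ ρ : ↥M24} {p q : ℕ} (hp : Rep σ.1 p) (hq : Rep τ.1 q) (h : σ = ρ * τ * ρ⁻¹) :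
    fixCount p = fixCount q := by
  rw [fixCount_rep hp, fixCount_rep hq]
  have hx : ∀ x, σ.1 x = ρ.1 (τ.1 (ρ.1.symm x)) := fun x => by rw [h]; rfl
  refine Finset.card_equiv ρ.1.symm fun x => ?_
  simp only [Finset.mem_filter, Finset.mem_univ, true_and, hx]
  exact ⟨fun e => by conv_rhs => rw [← e, Equiv.symm_apply_apply],
    fun e => by rw [e, Equiv.apply_symm_apply]⟩

end NVModel

/-- Translates of `W 1`: those in the commutator space are conjugate to `z`. -/
theorem type_eight [IsSimpleGroup G] (hG : ¬ IsMulCommutative G) (hJ : IsOfJankoFourType G) (M : B.NVModel) {n : ℕ}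
    (hn : n < 2048) (hfix : tMap 1 n = n) :
    IsConj S.z (B.vel n * B.W 1) ↔ Nat.testBit (iMask 1) n = true := by
  have hI := iMask_ok
  simp only [Bool.and_eq_true] at hI
  obtain ⟨⟨⟨-, hI⟩, -⟩, -⟩ := hI
  have hW : B.W 1 ∈ B.NV := B.W_NV (by norm_num)
  have hE := eight_split
  simp only [Bool.and_eq_true] at hE
  obtain ⟨⟨⟨⟨h8, -⟩, h8f⟩, hcent⟩, hclass⟩ := hE
  have hshift : ∀ {a b : ℕ}, a < 2048 → b < 2048 → Nat.testBit (iMask 1) (Nat.xor a b) = true →
      IsConj (B.vel a * B.W 1) (B.vel b * B.W 1) := fun {a b} ha hb h => by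
    have h' := forallLt_elim hI (Nat.xor_lt_two_pow (n := 11) ha hb)
    rw [show Nat.testBit _ (a ^^^ b) = true from h, Bool.not_true, Bool.false_or] at h'
    obtain ⟨u, hu, e⟩ := exists_of_forallLt_not h'
    have e' : b = a ^^^ (u ^^^ B.act (B.W 1) u) := by
      rw [B.act_W (by norm_num) hu, show u ^^^ tMap 1 u = a ^^^ b from (Nat.eq_of_beq_eq_true e).symm, ← Nat.xor_assoc,
        Nat.xor_self, Nat.zero_xor]
    rw [e']
    exact B.isConj_shift hW hu
  -- every translate outside the commutator space meets the target class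
  have hto : ∀ {m : ℕ}, m < 2048 → tMap 1 m = m → Nat.testBit (iMask 1) m = false →
      IsConj (B.vel m * B.W 1) (B.vel eightRep * B.W 1) := fun {m} hm hf hb => by
    have h := forallLt_elim hclass hm
    rw [show Nat.beq (tMap 1 m) m = true from (congrArg (Nat.beq · m) hf).trans (Nat.beq_refl m), Bool.not_true,
      Bool.false_or, hb, Bool.false_or] at h
    obtain ⟨k, hk, e⟩ := exists_of_forallLt_not h
    have hc := forallLt_elim hcent hk
    rw [Bool.and_eq_true] at hc
    obtain ⟨r, hr⟩ := exists_M24_elt hc.1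
    obtain ⟨s, hs⟩ := exists_M24_elt (show isAut (wPerm 1) = true by
      have := forallLt_elim wPerm_ok (show 1 < 64 by norm_num)
      rw [Bool.and_eq_true] at this
      exact this.1)
    have hcomm : r * s = s * r := Subtype.ext ((peq_iff (hr.mul hs) (hs.mul hr)).1 hc.2)
    have hWk : M.k s = B.W 1 := M.hW 1 (by norm_num) s hs
    have h1 : IsConj (B.vel m * B.W 1) (B.vel (pImg (CfsgLib.JankoFour.Ten.centPerms.getD k 0) m) * B.W 1) := by
      refine isConj_iff.2 ⟨M.k r, ?_⟩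
      rw [← M.act_k hr hm, B.vel_act (M.hk r) hm, ← hWk]
      calc M.k r * (B.vel m * M.k s) * (M.k r)⁻¹ = M.k r * B.vel m * (M.k r)⁻¹ * (M.k r * M.k s * (M.k r)⁻¹) := by
            group
        _ = _ := by rw [← map_mul, hcomm, map_mul, mul_inv_cancel_right]
    exact h1.trans (hshift (M.hact r _ hr m hm).1 (by norm_num [eightRep]) e)
  have hct := cert_table
  simp only [Bool.and_eq_true] at hct
  obtain ⟨⟨⟨c0, c8⟩, -⟩, -⟩ := hct
  cases hb : Nat.testBit (iMask 1) n
  · refine iff_of_false (fun hz => ?_) (by simp)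
    have h8' := (hto hn hfix hb).trans (hto (m := 8) (by norm_num) (Nat.eq_of_beq_eq_true h8f) (by simpa using h8)).symm
    exact Bool.noConfusion ((B.cert_coset hG hJ (by norm_num) c8).1 (hz.trans h8'))
  · refine iff_of_true ?_ rfl
    exact ((B.cert_coset hG hJ (by norm_num) c0).2 rfl).trans
      (hshift (a := 0) (by norm_num) hn (by rw [show Nat.xor 0 n = n from Nat.zero_xor n]; exact hb))

/-- Translates of `W 22`: those outside the commutator space are conjugate to `z`. -/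
theorem type_free [IsSimpleGroup G] (hG : ¬ IsMulCommutative G) (hJ : IsOfJankoFourType G) {n : ℕ} (hn : n < 2048)
    (hfix : tMap 22 n = n) :
    IsConj S.z (B.vel n * B.W 22) ↔ Nat.testBit (iMask 22) n = false := by
  have hI := iMask_ok
  simp only [Bool.and_eq_true] at hI
  obtain ⟨-, hI⟩ := hI
  have hW : B.W 22 ∈ B.NV := B.W_NV (by norm_num)
  have hshift : ∀ {a b : ℕ}, a < 2048 → b < 2048 → Nat.testBit (iMask 22) (Nat.xor a b) = true →
      IsConj (B.vel a * B.W 22) (B.vel b * B.W 22) := fun {a b} ha hb h => by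
    have h' := forallLt_elim hI (Nat.xor_lt_two_pow (n := 11) ha hb)
    rw [show Nat.testBit _ (a ^^^ b) = true from h, Bool.not_true, Bool.false_or] at h'
    obtain ⟨u, hu, e⟩ := exists_of_forallLt_not h'
    have e' : b = a ^^^ (u ^^^ B.act (B.W 22) u) := by
      rw [B.act_W (by norm_num) hu, show u ^^^ tMap 22 u = a ^^^ b from (Nat.eq_of_beq_eq_true e).symm, ← Nat.xor_assoc,
        Nat.xor_self, Nat.zero_xor]
    rw [e']
    exact B.isConj_shift hW hu
  have hS := free_split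
  simp only [Bool.and_eq_true] at hS
  obtain ⟨⟨-, -⟩, hS⟩ := hS
  have hct := cert_table
  simp only [Bool.and_eq_true] at hct
  obtain ⟨⟨-, c0⟩, c4⟩ := hct
  cases hb : Nat.testBit (iMask 22) n
  · refine iff_of_true ?_ rfl
    have h := forallLt_elim hS hn
    rw [show Nat.beq (tMap 22 n) n = true from (congrArg (Nat.beq · n) hfix).trans (Nat.beq_refl n), Bool.not_true,
      Bool.false_or, hb, Bool.false_or] at h
    exact ((B.cert_coset hG hJ (by norm_num) c4).2 rfl).trans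
      (hshift (by norm_num) hn (by rw [show Nat.xor 4 n = Nat.xor n freeRep from Nat.xor_comm 4 n]; exact h))
  · refine iff_of_false (fun hz => ?_) (by simp)
    exact Bool.noConfusion ((B.cert_coset hG hJ (by norm_num) c0).1 (hz.trans
      (hshift hn (b := 0) (by norm_num) (by rw [show Nat.xor n 0 = n from Nat.xor_zero n]; exact hb))))

/-- The bit mask is the commutator space. -/
theorem mask_iff {w : ℕ} (hw : w = 1 ∨ w = 22) {n : ℕ} (hn : n < 2048) :
    Nat.testBit (iMask w) n = true ↔ ∃ u < 2048, n = u ^^^ B.act (B.W w) u := by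
  have hI := iMask_ok
  simp only [Bool.and_eq_true] at hI
  have key : forallLt 2048 (fun u => Nat.testBit (iMask w) (Nat.xor u (tMap w u))) = true ∧
      forallLt 2048 (fun n => !Nat.testBit (iMask w) n ||
        !forallLt 2048 fun u => !Nat.beq n (Nat.xor u (tMap w u))) = true := by
    rcases hw with e | e <;> rw [e]
    · exact ⟨hI.1.1.1, hI.1.1.2⟩
    · exact ⟨hI.1.2, hI.2⟩
  have hw64 : w < 64 := by omega
  constructor
  · intro hb
    have h := forallLt_elim key.2 hn
    rw [hb, Bool.not_true, Bool.false_or] at h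
    obtain ⟨u, hu, e⟩ := exists_of_forallLt_not h
    exact ⟨u, hu, by rw [B.act_W hw64 hu]; exact Nat.eq_of_beq_eq_true e⟩
  · rintro ⟨u, hu, e⟩
    rw [e, B.act_W hw64 hu]
    exact forallLt_elim key.1 hu

/-- **Slice A**: the class of an involution of `N(V)` is read off its coordinates. -/
theorem nvType_statement [IsSimpleGroup G] (hG : ¬ IsMulCommutative G) (hJ : IsOfJankoFourType G) :
    B.NVTypeStatement := by
  classical
  intro M n σ p hn hp hsq hne
  obtain ⟨-, hD, -⟩ := B.duads_spec hG hJ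
  have hfp := wPerm_fix
  simp only [Bool.and_eq_true, Nat.beq_eq] at hfp
  obtain ⟨⟨hf1, hf22⟩, hfone⟩ := hfp
  by_cases hσ : σ = 1
  · subst hσ
    have h24 : fixCount p = 24 := by
      rw [fixCount_rep hp, ← hfone, fixCount_rep Rep.one]
      rfl
    rw [map_one, mul_one] at hne ⊢
    have hn0 : n ≠ 0 := fun e => hne (by rw [e, B.vel_zero])
    rw [typeZ, if_pos (by rw [h24]; rfl), zCode, Bool.and_eq_true, Bool.not_eq_true', Bool.not_eq_true']
    refine ⟨fun hz => ⟨?_, Bool.eq_false_iff.2 fun hb => ((hD n hn).1 hb).2 hz⟩, fun h => ?_⟩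
    · exact Bool.eq_false_iff.2 fun e => hn0 (Nat.eq_of_beq_eq_true e)
    · by_contra hz
      rw [(hD n hn).2 ⟨hn0, hz⟩] at h
      exact Bool.noConfusion h.2
  set x := B.vel n * M.k σ with hx
  have hxN : x ∈ B.NV := mul_mem (Subgroup.le_normalizer (B.vel_mem hn)) (M.hk σ)
  have hxV : x ∉ B.V := by
    rintro ⟨m, hm, e⟩
    exact hσ (M.hinj n m σ 1 hn hm (by rw [map_one, mul_one]; exact e.symm.trans rfl)).2
  obtain ⟨σ', -, hσ'⟩ := B.exists_moves24 hG hJ hxN
  have ht := B.invol_types hG hJ hxN hxV hsq hσ'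
  obtain ⟨w, hw, m, hm, hmx⟩ : ∃ w, (w = 1 ∨ w = 22) ∧ ∃ m ∈ B.NV, (m * B.W w * m⁻¹)⁻¹ * x ∈ B.V := by
    by_cases hc : ∃ q, σ' q = q
    · exact ⟨1, Or.inl rfl, ht.1 hc⟩
    · exact ⟨22, Or.inr rfl, ht.2 fun q e => hc ⟨q, e⟩⟩
  have hw64 : w < 64 := by rcases hw with rfl | rfl <;> norm_num
  have hWN : B.W w ∈ B.NV := B.W_NV hw64
  set y := m⁻¹ * x * m with hy
  obtain ⟨n', hn', hyn⟩ : y * B.W w ∈ B.V := by
    have := B.conj_mem hWN (B.conj_mem (inv_mem hm) hmx)
    rw [show B.W w * (m⁻¹ * ((m * B.W w * m⁻¹)⁻¹ * x) * m⁻¹⁻¹) * (B.W w)⁻¹ = m⁻¹ * x * m * (B.W w)⁻¹ by group,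
      show (B.W w)⁻¹ = B.W w from inv_eq_of_mul_eq_one_right (B.W_sq w)] at this
    exact this
  have hye : y = B.vel n' * B.W w := by rw [hyn, mul_assoc, B.W_sq, mul_one]
  have hyy : y * y = 1 := by
    rw [hy, show m⁻¹ * x * m * (m⁻¹ * x * m) = m⁻¹ * (x * x) * m by group, hsq, mul_one, inv_mul_cancel]
  have hfix : tMap w n' = n' := by
    have hlt : B.act (B.W w) n' < 2048 := B.act_lt _ _
    rw [← B.act_W hw64 hn']
    rw [hye, show B.vel n' * B.W w * (B.vel n' * B.W w) = B.vel n' * (B.W w * B.vel n' * (B.W w)⁻¹) * (B.W w * B.W w) by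
      group, ← B.vel_act hWN hn', B.W_sq, mul_one, B.vel_xor] at hyy
    exact (Nat.xor_eq_zero_iff.1 (B.vel_inj (Nat.xor_lt_two_pow (n := 11) hn' hlt) (by norm_num)
      (hyy.trans B.vel_zero.symm))).symm
  have hconj : IsConj y x := isConj_iff.2 ⟨m, by rw [hy]; group⟩
  obtain ⟨s, hs⟩ := exists_M24_elt (show isAut (wPerm w) = true by
    have := forallLt_elim wPerm_ok hw64
    rw [Bool.and_eq_true] at this
    exact this.1)
  have hks : M.k s = B.W w := M.hW w hw64 s hs
  -- transport of the commutator space and of the fixed points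
  obtain ⟨hfc, hne24⟩ : fixCount p = fixCount (wPerm w) ∧ fixCount p ≠ 24 := by
    obtain ⟨v, hv, ρ, hρ⟩ := M.hdec m hm
    have h1 : x = B.vel v * M.k ρ * (B.vel n' * M.k s) * (B.vel v * M.k ρ)⁻¹ := by
      rw [← hρ, hks, ← hye, hy]; group
    have e : B.vel v * M.k ρ * (B.vel n' * M.k s) * (B.vel v * M.k ρ)⁻¹ =
        B.vel v * (B.vel (B.act (M.k ρ) n') * M.k (ρ * s * ρ⁻¹)) * (B.vel v)⁻¹ := by
      rw [B.vel_act (M.hk ρ) hn', map_mul, map_mul, map_inv]; group
    rw [e, B.conj_shift (M.hk _) hv] at h1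
    obtain ⟨-, h2⟩ := M.hinj _ _ _ _ hn
      (Nat.xor_lt_two_pow (n := 11) (B.act_lt _ _) (Nat.xor_lt_two_pow (n := 11) hv (B.act_lt _ _))) h1
    have hfc := NVModel.fixCount_conj (ρ := ρ) hp hs h2
    refine ⟨hfc, ?_⟩
    rw [hfc]
    rcases hw with rfl | rfl
    · rw [hf1]; norm_num
    · rw [hf22]; norm_num
  have himg : inImg p n = true ↔ Nat.testBit (iMask w) n' = true := by
    rw [B.mask_iff hw hn', M.inImg_iff hp, ← hks]
    have hmk : m * (B.vel n' * M.k s) * m⁻¹ = x := by rw [hks, ← hye, hy]; group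
    constructor
    · rintro ⟨u, hu, e⟩
      refine (M.img_of_conj (σ := s) (τ := σ) hn' (g := m⁻¹ * B.vel u)
        (mul_mem (inv_mem hm) (Subgroup.le_normalizer (B.vel_mem hu))) ?_).1
      have h1 := B.conj_shift (M.hk σ) (n := 0) hu
      rw [Nat.zero_xor, ← e, B.vel_zero, one_mul, ← hx] at h1
      rw [hks, ← hye, hy, ← h1]; group
    · rintro ⟨u, hu, e⟩
      refine (M.img_of_conj (σ := σ) (τ := s) hn (g := m * B.vel u)
        (mul_mem hm (Subgroup.le_normalizer (B.vel_mem hu))) ?_).1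
      have h1 := B.conj_shift (M.hk s) (n := 0) hu
      rw [Nat.zero_xor, ← e, B.vel_zero, one_mul] at h1
      rw [← hx, ← hmk, ← h1]; group
  rw [typeZ, if_neg (fun e => hne24 (Nat.eq_of_beq_eq_true e))]
  have hiso : IsConj S.z x ↔ IsConj S.z y := ⟨fun h => h.trans hconj.symm, fun h => h.trans hconj⟩
  rw [hiso, hye]
  rcases hw with rfl | rfl
  · rw [hfc, hf1, show Nat.beq 8 8 = true from rfl, beq_iff_eq, eq_comm, himg]
    exact B.type_eight hG hJ M hn' hfix
  · rw [hfc, hf22, show Nat.beq 0 8 = false from rfl, beq_iff_eq, eq_comm, B.type_free hG hJ hn' hfix,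
      ← Bool.not_eq_true, ← Bool.not_eq_true, himg]

end HexBase

end CfsgLib.JankoFour
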